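import Groth.Agent.AVDeg.Char
import Groth.Agent.Unibranch.FibreDims

/-!
# Multiplication by `n` is surjective on an abelian variety
-/

set_option autoImplicit false
set_option backward.isDefEq.respectTransparency false
set_option backward.isDefEq.respectTransparency.types false
set_option linter.style.haveILetI false

universe u

open CategoryTheory MonoidalCategory CartesianMonoidalCategory MonObj AlgebraicGeometry

namespace Groth.Agent.AgSymm

theorem exists_krullDim {k : Type u} [Field k] {X : Scheme.{u}} (f : X ⟶ Spec (CommRingCat.of k))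
    [LocallyOfFiniteType f] [QuasiCompact f] [Nonempty X] :
    ∃ n : ℕ, topologicalKrullDim X = (n : WithBot ℕ∞) := by
  let y : Spec (CommRingCat.of k) := IsLocalRing.closedPoint k
  haveI : Subsingleton (Spec (CommRingCat.of k)) := inferInstanceAs (Subsingleton (PrimeSpectrum k))
  have huniv : f ⁻¹' {y} = Set.univ := Set.eq_univ_of_forall fun x => Subsingleton.elim (f x) y
  let e : f.fiber y ≃ₜ X := (f.fiberHomeo y).trans ((Homeomorph.setCongr huniv).trans (Homeomorph.Set.univ X))
  rcases Unibranch.exists_natCast_dim_fiber f y with h | ⟨n, hn⟩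
  · exact ((h.false (e.symm (Classical.arbitrary X)))).elim
  · exact ⟨n, (IsHomeomorph.topologicalKrullDim_eq _ e.isHomeomorph).symm.trans hn⟩

variable {k : Type u} [Field k] [IsAlgClosed k] (A : Over (Spec (CommRingCat.of k)))
  [GrpObj A] [IsProper A.hom] [GeometricallyIntegral A.hom]

theorem surjective_pow {n : ℕ} (hn : n ≠ 0) : Surjective (𝟙 A ^ n : A ⟶ A).left := by
  haveI := isCommMonObj_of_isProper_of_geometricallyIntegral A
  haveI := AVDeg.isIntegral_av A
  obtain ⟨r, hr⟩ := exists_krullDim A.hom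
  haveI : IsMonHom (1 : A ⟶ A) := by rw [Hom.one_def]; infer_instance
  obtain ⟨P, hP, -, h⟩ := AVDeg.exists_monic_deg hr (1 : A ⟶ A)
  have h' : ∀ j : ℕ, P.eval (j : ℚ) = AVDeg.deg (𝟙 A ^ j : A ⟶ A) := fun j => by
    have := h j
    rwa [_root_.one_mul, zpow_natCast] at this
  haveI hm : ∀ j : ℕ, IsMonHom (𝟙 A ^ j : A ⟶ A) := fun j => by
    rw [← zpow_natCast]; exact AVDeg.isMonHom_zpow (𝟙 A) j
  by_cases hf : IsFinite (𝟙 A ^ n : A ⟶ A).left
  · exact GrpField.surjective_of_isFinite _ rfl
  exfalso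
  have hz : ∀ m : ℕ, P.eval ((n * m : ℕ) : ℚ) = 0 := fun m => by
    rw [h', show (𝟙 A ^ (n * m) : A ⟶ A) = (𝟙 A ^ n : A ⟶ A) ≫ (𝟙 A ^ m : A ⟶ A) by
      rw [MonObj.comp_pow, Category.comp_id, pow_mul], AVDeg.deg_comp hr, AVDeg.deg_eq_zero_of_not_isFinite hf]
    simp
  refine hP.ne_zero (Polynomial.eq_zero_of_infinite_isRoot P ?_)
  refine Set.infinite_of_injective_forall_mem (f := fun m : ℕ => ((n * m : ℕ) : ℚ)) (fun a b hab => ?_) hz
  simp only at hab
  have : n * a = n * b := by exact_mod_cast hab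
  exact Nat.eq_of_mul_eq_mul_left (Nat.pos_of_ne_zero hn) this

end Groth.Agent.AgSymm
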