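import Groth.Agent.Rigid.Lemma
import Groth.Agent.Rigid.Smooth
import Mathlib.FieldTheory.IsAlgClosed.AlgebraicClosure

/-!
# Morphisms out of an abelian scheme collapsing every fibre to the unit
-/

set_option autoImplicit false
set_option backward.isDefEq.respectTransparency false
set_option backward.isDefEq.respectTransparency.types false
set_option linter.style.haveILetI false

universe u

open CategoryTheory CategoryTheory.Limits MonoidalCategory CartesianMonoidalCategory MonObj GrpObj AlgebraicGeometry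

namespace Groth.Agent.AgSymm

variable {S : Scheme.{u}} {A B : Over S} [GrpObj A] [GrpObj B] [IsProper A.hom] [Smooth A.hom]
  [GeometricallyConnected A.hom]

/-- a morphism of pointed schemes collapsing every fibre is trivial (no separatedness needed) -/
theorem eq_one_of_collapsed (ψ : A ⟶ B) (h1 : η[A] ≫ ψ = η[B])
    (h : ∀ y : A.left, ψ.left.base y = η[B].left.base (A.hom.base y)) : ψ = 1 := by
  haveI : LocallyOfFinitePresentation A.hom := inferInstance
  have hl : η[A].left ≫ ψ.left = η[B].left := congrArg CommaMorphism.left h1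
  refine Over.OverMorphism.ext (Rigid.hom_ext_of_forall _ _ fun y => ?_)
  obtain ⟨U, hU, hU'⟩ := Rigid.exists_eq_section_of_collapsed A.hom (Rigid.goodFibres_of_smooth A.hom)
    η[A].left (Over.w η[A]) ψ.left (A.hom.base y) (by
      rintro _ ⟨a, ha, rfl⟩ _ ⟨b, hb, rfl⟩
      rw [h a, h b, Set.mem_singleton_iff.1 ha, Set.mem_singleton_iff.1 hb])
  refine ⟨A.hom ⁻¹ᵁ U, hU, hU'.trans ?_⟩
  rw [hl, show (1 : A ⟶ B).left = A.hom ≫ η[B].left by rw [Hom.one_def]; rfl]

/-- a geometric point through every point -/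
theorem exists_geometric {X : Scheme.{u}} (y : X) : ∃ (Ω : Type u) (_ : Field Ω) (_ : IsAlgClosed Ω)
    (a : Spec (CommRingCat.of Ω) ⟶ X), ∀ p, a.base p = y :=
  ⟨AlgebraicClosure (X.residueField y), inferInstance, inferInstance,
    Spec.map (CommRingCat.ofHom (algebraMap (X.residueField y) (AlgebraicClosure (X.residueField y)))) ≫
      X.fromSpecResidueField y,
    fun p => (Scheme.Hom.comp_apply _ _ p).trans (Scheme.fromSpecResidueField_apply y _)⟩

/-- pointed morphisms agreeing on geometric points are equal -/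
theorem eq_of_geometric (f g : A ⟶ B) (hf : η[A] ≫ f = η[B]) (hg : η[A] ≫ g = η[B])
    (h : ∀ (Ω : Type u) [Field Ω] [IsAlgClosed Ω] (a : Spec (CommRingCat.of Ω) ⟶ A.left), a ≫ f.left = a ≫ g.left) :
    f = g := by
  refine mul_inv_eq_one.1 (eq_one_of_collapsed (f * g⁻¹) ?_ fun y => ?_)
  · rw [MonObj.comp_mul, GrpObj.comp_inv, hf, hg, mul_inv_cancel, Hom.one_def]
    exact (congrArg (· ≫ η[B]) (toUnit_unique (toUnit _) (𝟙 _))).trans (Category.id_comp _)
  obtain ⟨Ω, _, _, a, ha⟩ := exists_geometric y
  let a' : Over.mk (a ≫ A.hom) ⟶ A := Over.homMk a rfl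
  have e : a' ≫ (f * g⁻¹) = 1 := by
    rw [MonObj.comp_mul, GrpObj.comp_inv, show a' ≫ f = a' ≫ g from Over.OverMorphism.ext (h Ω a), mul_inv_cancel]
  rw [Hom.one_def] at e
  have e' := congrArg (fun m => m.left.base (IsLocalRing.closedPoint Ω)) e
  simp only [Over.comp_left, Scheme.Hom.comp_apply] at e'
  rw [show a'.left.base (IsLocalRing.closedPoint Ω) = y from ha _] at e'
  refine e'.trans ?_
  change η[B].left.base ((a ≫ A.hom).base _) = _
  rw [Scheme.Hom.comp_apply, ha]

end Groth.Agent.AgSymm
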