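import Groth.Agent.AgSymm.Basic
import Groth.Agent.AgSymm.Collapse
import Groth.Agent.W7See.Point
import Groth.Prelude.Def_AgPol

/-!
# Polarisations are symmetric
-/

set_option autoImplicit false
set_option backward.isDefEq.respectTransparency false
set_option backward.isDefEq.respectTransparency.types false
set_option linter.style.haveILetI false
set_option linter.unusedSectionVars false
set_option maxHeartbeats 2000000

universe u

open CategoryTheory MonoidalCategory CartesianMonoidalCategory MonObj GrpObj AlgebraicGeometry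
open Groth.Agent.W7Cube (pull pull_pull pull_cls)
open Groth.Agent.AbPrim (val pull_val)

noncomputable section

namespace Groth.Agent.AgSymm

attribute [local instance] W7Cube.law

variable {S : Scheme.{u}} {A At : Over S} [GrpObj A] [IsCommMonObj A] [GrpObj At]
  [IsProper A.hom] [Smooth A.hom] [GeometricallyConnected A.hom]
  {φ : ∀ T : Over S, PicF.Cl (PicF.XT A.hom T) → (T ⟶ At)}

lemma picSet_eq_one {Z : Scheme.{u}} [Subsingleton Z] [Nonempty Z] (c : PicLoc.PicSet Z) : c = 1 := by
  obtain ⟨M, hM, rfl⟩ := PicGrp.exists_eq_cls c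
  exact (PicGrp.cls_eq_one_iff hM).2 (W7See.nonempty_iso_unit_of_subsingleton hM)

section points

variable {Ω : Type u} [Field Ω] (τ : Spec (CommRingCat.of Ω) ⟶ S)

omit [IsCommMonObj A] [IsProper A.hom] [Smooth A.hom] [GeometricallyConnected A.hom] in
/-- points of the base change -/
def toBase {U : Over (Spec (CommRingCat.of Ω))} (f : U ⟶ Red.bc τ A) : (Over.map τ).obj U ⟶ A :=
  ((Over.mapPullbackAdj τ).homEquiv _ _).symm f

lemma toBase_left {U : Over (Spec (CommRingCat.of Ω))} (f : U ⟶ Red.bc τ A) :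
    (toBase τ f).left = f.left ≫ Limits.pullback.fst _ _ := by
  rw [toBase, Adjunction.homEquiv_counit]
  simp [Over.mapPullbackAdj]

lemma toBase_mul {U : Over (Spec (CommRingCat.of Ω))} (f g : U ⟶ Red.bc τ A) :
    toBase τ (f * g) = toBase τ f * toBase τ g := by
  apply ((Over.mapPullbackAdj τ).homEquiv _ _).injective
  rw [toBase, Equiv.apply_symm_apply, Adjunction.homEquiv_unit, Functor.map_mul, MonObj.comp_mul,
    ← Adjunction.homEquiv_unit, ← Adjunction.homEquiv_unit, toBase, toBase, Equiv.apply_symm_apply, Equiv.apply_symm_apply]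

end points

theorem comp_phi_swapCls (P : Poincare φ) (hA : AbDual.IsDualAV Scheme.fppfPrecoverage A At φ) {l : A ⟶ At}
    (hl : AgPol.IsPolarization A At φ l) {Ω : Type u} [Field Ω] [IsAlgClosed Ω] (a : Spec (CommRingCat.of Ω) ⟶ A.left) :
    a ≫ (φ A (P.swapCls l).1).left = a ≫ l.left := by
  obtain ⟨hlm, hl⟩ := hl
  let τ := a ≫ A.hom
  obtain ⟨L, hL, N, hN, ⟨iN⟩, hNl⟩ := hl Ω τ
  let B := Red.bc τ A
  haveI : GeometricallyConnected B.hom := inferInstanceAs (GeometricallyConnected (Limits.pullback.snd A.hom τ))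
  haveI : LocallyOfFiniteType B.hom := inferInstanceAs (LocallyOfFiniteType (Limits.pullback.snd A.hom τ))
  haveI : QuasiCompact B.hom := inferInstanceAs (QuasiCompact (Limits.pullback.snd A.hom τ))
  let T : Over S := Over.mk (B.hom ≫ τ)
  let pr : T ⟶ A := Over.homMk (Limits.pullback.fst A.hom τ) Limits.pullback.condition
  let ℓ : PicLoc.PicSet B.left := PicGrp.cls L hL.1
  let hat : ∀ {V : Over S} (w : V ⟶ T) (g : V ⟶ A), V.left ⟶ B.left := fun {V} w g =>
    Limits.pullback.lift g.left (w.left ≫ B.hom) (by rw [Over.w g, Category.assoc]; exact (Over.w w).symm)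
  have hat_comp : ∀ {V V' : Over S} (h : V' ⟶ V) (w : V ⟶ T) (g : V ⟶ A), h.left ≫ hat w g = hat (h ≫ w) (h ≫ g) :=
    fun h w g => Limits.pullback.hom_ext (by simp [hat]) (by simp [hat])
  have hat_congr : ∀ {V : Over S} (w w' : V ⟶ T) (g : V ⟶ A), w.left ≫ B.hom = w'.left ≫ B.hom → hat w g = hat w' g :=
    fun w w' g h => Limits.pullback.hom_ext (by simp [hat]) (by simpa [hat] using h)
  let e₀ : Spec (CommRingCat.of Ω) ⟶ B.left := Limits.pullback.lift (τ ≫ η[A].left) (𝟙 _)
    (by rw [Category.assoc, Over.w η[A]]; exact (Category.comp_id τ).trans (Category.id_comp τ).symm)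
  haveI : Subsingleton (Spec (CommRingCat.of Ω)) := inferInstanceAs (Subsingleton (PrimeSpectrum Ω))
  haveI : Nonempty (Spec (CommRingCat.of Ω)) := inferInstanceAs (Nonempty (PrimeSpectrum Ω))
  have hat_one : ∀ {V : Over S} (w : V ⟶ T), pull (hat w 1) ℓ = 1 := fun {V} w => by
    rw [show hat w 1 = (w.left ≫ B.hom) ≫ e₀ from Limits.pullback.hom_ext (by
      simp only [hat, e₀, Category.assoc, Limits.pullback.lift_fst, Hom.one_def, Over.comp_left]
      exact (congrArg (· ≫ η[A].left) ((Over.w w).symm.trans (Category.assoc w.left B.hom τ).symm)).trans (by simp))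
      (by simp [hat, e₀]), ← pull_pull, picSet_eq_one (pull e₀ ℓ), map_one]
  let κι : (A ⊗ T).left ⟶ (B ⊗ B).left := (AgPol.bcXTIso τ A B).inv
  let E : PicLoc.PicSet (A ⊗ T).left := pull κι (PicGrp.cls N hN)
  let p : A ⊗ T ⟶ A := fst A T
  let q : A ⊗ T ⟶ A := snd A T ≫ pr
  let e : A ⊗ T ⟶ (Over.map τ).obj (B ⊗ B) := Over.homMk κι (by
    change κι ≫ ((fst B B).left ≫ B.hom) ≫ τ = (A ⊗ T).hom
    rw [Over.w (fst B B), ← Over.w (snd B B), ← Over.w (snd A T)]
    simp [κι, AgPol.bcXTIso, T, B])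
  have he1 : e ≫ toBase τ (fst B B) = p := Over.OverMorphism.ext (by
    rw [Over.comp_left, toBase_left]
    simp [e, κι, p, AgPol.bcXTIso, B]
    rfl)
  have he2 : e ≫ toBase τ (snd B B) = q := Over.OverMorphism.ext (by
    rw [Over.comp_left, toBase_left]
    simp [e, κι, q, pr, AgPol.bcXTIso, B, T])
  have hsnd : κι ≫ (snd B B).left = (snd A T).left := by simp [κι, AgPol.bcXTIso, B, T]
  have hhat : ∀ (f : B ⊗ B ⟶ B) (g : A ⊗ T ⟶ A), e ≫ toBase τ f = g → κι ≫ f.left = hat (snd A T) g := fun f g hfg =>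
    Limits.pullback.hom_ext (by
        rw [← hfg]
        simp only [hat, Category.assoc, Limits.pullback.lift_fst, Over.comp_left, toBase_left]
        rfl)
      (by
        simp only [hat, Category.assoc, Limits.pullback.lift_snd]
        rw [show f.left ≫ Limits.pullback.snd A.hom τ = (snd B B).left ≫ B.hom from (Over.w f).trans (Over.w (snd B B)).symm,
          ← Category.assoc, hsnd])
  have eq0 : E * pull (hat (snd A T) p) ℓ * pull (hat (snd A T) q) ℓ = pull (hat (snd A T) (p * q)) ℓ := by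
    rw [← hhat _ _ he1, ← hhat _ _ he2, ← hhat μ[B] (p * q) (by
      rw [show μ[B] = fst B B * snd B B by rw [Hom.mul_def, lift_fst_snd, Category.id_comp], toBase_mul,
        MonObj.comp_mul, he1, he2]), ← pull_pull, ← pull_pull, ← pull_pull]
    change pull κι (PicGrp.cls N hN) * _ * _ = _
    rw [← map_mul, ← map_mul]
    refine congrArg (pull κι) (Subtype.ext ?_)
    exact Quot.sound ⟨iN⟩
  have eqV : ∀ {V : Over S} (f : V ⟶ A) (t : V ⟶ T),
      val E f t * pull (hat t f) ℓ * pull (hat t (t ≫ pr)) ℓ = pull (hat t (f * (t ≫ pr))) ℓ := fun f t => by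
    have h := congrArg (pull (lift f t).left) eq0
    rw [map_mul, map_mul, pull_pull _ (hat (snd A T) p) ℓ, pull_pull _ (hat (snd A T) q) ℓ, pull_pull _ (hat (snd A T) (p * q)) ℓ, hat_comp, hat_comp, hat_comp] at h
    simp only [p, q, MonObj.comp_mul, lift_fst, lift_snd, lift_snd_assoc] at h
    exact h
  have hE1 : val E 1 (𝟙 T) = 1 := by
    have h := eqV 1 (𝟙 T)
    rw [hat_one, _root_.mul_one, _root_.one_mul] at h
    exact mul_eq_right.1 h
  let eT : Over.mk τ ⟶ T := Over.homMk e₀ (by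
    change e₀ ≫ B.hom ≫ τ = τ
    rw [← Category.assoc, show e₀ ≫ B.hom = 𝟙 _ from Limits.pullback.lift_snd _ _ _, Category.id_comp])
  have heT : (snd A (Over.mk τ) ≫ eT) ≫ pr = 1 := Over.OverMorphism.ext (by
    simp only [Over.comp_left, eT, pr, e₀, Over.homMk_left, Category.assoc, Limits.pullback.lift_fst, Hom.one_def]
    rw [← Category.assoc]
    exact congrArg (· ≫ η[A].left) (Over.w (snd A (Over.mk τ))))
  have hE0 : AbDual.IsPicZeroCl A.hom T E.1 := by
    refine picZero_of_family (X := A) (T := T) τ B.hom rfl eT (Limits.pullback.lift_snd _ _ _) E ?_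
    have h := eqV (fst A (Over.mk τ)) (snd A (Over.mk τ) ≫ eT)
    rw [heT, hat_one, _root_.mul_one, _root_.mul_one, mul_eq_right] at h
    exact (congrArg (fun m => pull m E) (congrArg (fun m : A ⊗ Over.mk τ ⟶ A ⊗ T => m.left)
      (CartesianMonoidalCategory.hom_ext _ _ (by simp) (by simp) :
        A ◁ eT = lift (fst A (Over.mk τ)) (snd A (Over.mk τ) ≫ eT)))).trans h
  have hEφ : φ T E.1 = pr ≫ l := Over.OverMorphism.ext (by
    have h := congrArg (fun m => m.left ≫ Limits.pullback.fst At.hom τ) hNl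
    simp only [AgPol.bcDual, Over.homMk_left, Limits.pullback.lift_fst] at h
    refine h.trans ?_
    simp [pr, B])
  have hE : E = P.cls (pr ≫ l) := (P.eq_cls hA hE0 hE1).trans (congrArg P.cls hEφ)
  -- exchange the factors
  let g₀ : A ⊗ T ⟶ T := Over.homMk (hat (snd A T) p) (by
    change hat (snd A T) p ≫ Limits.pullback.snd A.hom τ ≫ τ = (A ⊗ T).hom
    rw [← Category.assoc, Limits.pullback.lift_snd, Category.assoc]
    exact Over.w (snd A T))
  have hg : g₀ ≫ pr = p := Over.OverMorphism.ext (by simp [g₀, pr, hat])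
  have hgB : g₀.left ≫ B.hom = (snd A T).left ≫ B.hom := Limits.pullback.lift_snd _ _ _
  have hsymm : val E q g₀ = E := by
    have h := eqV q g₀
    rw [hg, hat_congr g₀ (snd A T) q hgB, hat_congr g₀ (snd A T) p hgB, hat_congr g₀ (snd A T) _ hgB,
      _root_.mul_comm q p, _root_.mul_assoc, _root_.mul_comm (pull (hat (snd A T) q) ℓ), ← _root_.mul_assoc, ← eq0] at h
    exact mul_right_cancel (mul_right_cancel h)
  have hs : pull (PicF.XTmap A.hom pr) (P.swapCls l) = E := by
    rw [XTmap_eq, ← hsymm, hE, Poincare.val_cls]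
    refine (pull_val P.x (A ◁ pr) (snd A A) (fst A A ≫ l)).trans ?_
    rw [whiskerLeft_snd, whiskerLeft_fst_assoc, ← Category.assoc g₀, hg]
  have hfin : pr ≫ φ A (P.swapCls l).1 = pr ≫ l := by
    rw [← hA.relPic.natural A T pr _ (P.picZero_swapCls l), ← hEφ, ← hs]
    rfl
  let a₁ : Spec (CommRingCat.of Ω) ⟶ T.left := Limits.pullback.lift a (𝟙 _) (Category.id_comp τ).symm
  have h := congrArg (fun m => a₁ ≫ m.left) hfin
  simp only [Over.comp_left] at h
  rwa [← Category.assoc, ← Category.assoc, show a₁ ≫ pr.left = a from Limits.pullback.lift_fst _ _ _] at h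

/-- **a polarisation is symmetric** -/
theorem phi_swapCls (P : Poincare φ) (hA : AbDual.IsDualAV Scheme.fppfPrecoverage A At φ) {l : A ⟶ At}
    (hl : AgPol.IsPolarization A At φ l) : φ A (P.swapCls l).1 = l := by
  haveI : IsMonHom l := hl.1
  refine eq_of_geometric _ _ ?_ (IsMonHom.one_hom l) fun Ω _ _ a => comp_phi_swapCls P hA hl a
  rw [← hA.relPic.natural A (𝟙_ (Over S)) η[A] _ (P.picZero_swapCls l)]
  have e : pull (PicF.XTmap A.hom η[A]) (P.swapCls l) = 1 := by
    rw [XTmap_eq]
    refine (pull_val P.x (A ◁ η[A]) (snd A A) (fst A A ≫ l)).trans ?_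
    rw [whiskerLeft_snd, show snd A (𝟙_ (Over S)) = toUnit _ from toUnit_unique _ _, ← Hom.one_def, P.val_one_left]
  change φ (𝟙_ (Over S)) (pull (PicF.XTmap A.hom η[A]) (P.swapCls l)).1 = η[At]
  rw [e]
  refine (AbPrim.phi_one hA).trans ?_
  rw [Hom.one_def]
  exact (congrArg (· ≫ η[At]) (toUnit_unique (toUnit _) (𝟙 _))).trans (Category.id_comp _)

end Groth.Agent.AgSymm
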