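import Groth.Agent.AbPrim.Dual
import Groth.Agent.S5342

/-!
# Products of classes algebraically equivalent to zero
-/

set_option autoImplicit false
set_option backward.isDefEq.respectTransparency false
set_option backward.isDefEq.respectTransparency.types false
set_option linter.style.haveILetI false
set_option maxHeartbeats 1000000

universe u

open CategoryTheory CategoryTheory.Limits AlgebraicGeometry

noncomputable section

namespace Groth.Agent.AgSymm

attribute [local instance] W7Cube.law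

variable {Ω : Type u} [Field Ω]

theorem algEquiv_tensor {P : Scheme.{u}} [P.Over (Spec (CommRingCat.of Ω))] {L L' : P.Modules}
    (h : Pic13.IsAlgEquivZero Ω P L) (h' : Pic13.IsAlgEquivZero Ω P L') :
    Pic13.IsAlgEquivZero Ω P (CohB1.tensorMod L L') := by
  obtain ⟨Z, q, hZ, hlft, hqc, M, hM, t, t₀, ht, ht₀, ⟨i⟩, ⟨i₀⟩⟩ := h
  obtain ⟨Z', q', hZ', hlft', hqc', M', hM', t', t₀', ht', ht₀', ⟨i'⟩, ⟨i₀'⟩⟩ := h'
  haveI := hlft; haveI := hlft'; haveI := hqc; haveI := hqc'
  let W := pullback q q'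
  let r : W ⟶ Spec (CommRingCat.of Ω) := pullback.fst q q' ≫ q
  haveI : ConnectedSpace W := S5342.result Ω Z Z' q q' t₀ ht₀
  haveI : LocallyOfFiniteType r := inferInstance
  haveI : QuasiCompact r := inferInstance
  let m : Pic13.prodK Ω P r ⟶ Pic13.prodK Ω P q := pullback.lift (pullback.fst _ _) (pullback.snd _ _ ≫ pullback.fst q q')
    (by rw [Category.assoc]; exact pullback.condition)
  let m' : Pic13.prodK Ω P r ⟶ Pic13.prodK Ω P q' := pullback.lift (pullback.fst _ _) (pullback.snd _ _ ≫ pullback.snd q q')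
    (by rw [Category.assoc, ← pullback.condition (f := q) (g := q')]; exact pullback.condition)
  let M'' := CohB1.tensorMod ((Scheme.Modules.pullback m).obj M) ((Scheme.Modules.pullback m').obj M')
  have key : ∀ (a : Spec (CommRingCat.of Ω) ⟶ Z) (a' : Spec (CommRingCat.of Ω) ⟶ Z') (ha : a ≫ q = 𝟙 _)
      (ha' : a' ≫ q' = 𝟙 _) (hw : pullback.lift a a' (ha.trans ha'.symm) ≫ r = 𝟙 _) {A A' : P.Modules},
      (Pic13.fibreMod Ω P q a ha M ≅ A) → (Pic13.fibreMod Ω P q' a' ha' M' ≅ A') →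
        Nonempty (Pic13.fibreMod Ω P r _ hw M'' ≅ CohB1.tensorMod A A') := by
    intro a a' ha ha' hw A A' j j'
    let σ := Pic13.sliceAt Ω P r _ hw
    have e : σ ≫ m = Pic13.sliceAt Ω P q a ha := by
      refine pullback.hom_ext ?_ ?_
      · simp [σ, m, Pic13.sliceAt]
      · simp [σ, m, Pic13.sliceAt]
    have e' : σ ≫ m' = Pic13.sliceAt Ω P q' a' ha' := by
      refine pullback.hom_ext ?_ ?_
      · simp [σ, m', Pic13.sliceAt]
      · simp [σ, m', Pic13.sliceAt]
    obtain ⟨u⟩ := TMul.nonempty_pullTensorIso σ ((Scheme.Modules.pullback m).obj M) ((Scheme.Modules.pullback m').obj M')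
    exact ⟨u.symm ≪≫ PicGrp.tensorModIso
      ((Scheme.Modules.pullbackComp σ m).app M ≪≫ (Scheme.Modules.pullbackCongr e).app M ≪≫ j)
      ((Scheme.Modules.pullbackComp σ m').app M' ≪≫ (Scheme.Modules.pullbackCongr e').app M' ≪≫ j')⟩
  obtain ⟨k₀⟩ := key t₀ t₀' ht₀ ht₀' (by simp [r, ht₀]) i₀ i₀'
  refine ⟨W, r, inferInstance, inferInstance, inferInstance, M'',
    TMul.isInvertible_tensorMod (PicLoc.isInvertible_pullback _ hM) (PicLoc.isInvertible_pullback _ hM'),
    pullback.lift t t' (ht.trans ht'.symm), pullback.lift t₀ t₀' (ht₀.trans ht₀'.symm), (by simp [r, ht]),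
    (by simp [r, ht₀]), key t t' ht ht' (by simp [r, ht]) i i', ⟨k₀ ≪≫ TMul.leftUnitIso _⟩⟩

theorem picZero_mul {S : Scheme.{u}} {A T : Over S} {c d : PicLoc.PicSet (PicF.XT A.hom T)}
    (hc : AbDual.IsPicZeroCl A.hom T c.1) (hd : AbDual.IsPicZeroCl A.hom T d.1) :
    AbDual.IsPicZeroCl A.hom T (c * d).1 := by
  obtain ⟨L, hc', hL, hLt⟩ := hc
  obtain ⟨M, hd', hM, hMt⟩ := hd
  obtain rfl : c = PicGrp.cls L hL := Subtype.ext hc'.symm
  obtain rfl : d = PicGrp.cls M hM := Subtype.ext hd'.symm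
  refine ⟨CohB1.tensorMod L M, (PicGrp.cls_mul_cls_val hL hM).symm, TMul.isInvertible_tensorMod hL hM, fun t K _ _ σ hσ => ?_⟩
  letI : (pullback (PicF.XTproj A.hom T) σ).Over (Spec (CommRingCat.of K)) := ⟨pullback.snd _ _⟩
  obtain ⟨u⟩ := TMul.nonempty_pullTensorIso (pullback.fst (PicF.XTproj A.hom T) σ) L M
  exact AbPrim.algEquiv_iso u (algEquiv_tensor (hLt t K σ hσ) (hMt t K σ hσ))

end Groth.Agent.AgSymm
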