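import Groth.Agent.AbPrim.Dual

/-!
# A class over a connected family through a trivial member is algebraically equivalent to zero on the fibres
-/

set_option autoImplicit false
set_option backward.isDefEq.respectTransparency false
set_option backward.isDefEq.respectTransparency.types false
set_option linter.style.haveILetI false
set_option maxHeartbeats 1000000

universe u

open CategoryTheory MonoidalCategory CartesianMonoidalCategory MonObj AlgebraicGeometry
open Groth.Agent.W7Cube (pull pull_pull pull_cls)

noncomputable section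

namespace Groth.Agent.AgSymm

attribute [local instance] W7Cube.law

variable {S S₀ : Scheme.{u}} {X T : Over S}

/-- the classes on a connected family of `X` containing a trivial one are in `Pic⁰` -/
theorem picZero_of_family (τ : S₀ ⟶ S) (q : T.left ⟶ S₀) (hq : q ≫ τ = T.hom) [GeometricallyConnected q]
    [LocallyOfFiniteType q] [QuasiCompact q] (e : Over.mk τ ⟶ T) (he : e.left ≫ q = 𝟙 S₀)
    (c : PicLoc.PicSet (X ⊗ T).left) (hc : pull (X ◁ e).left c = 1) :
    AbDual.IsPicZeroCl X.hom T c.1 := by
  obtain ⟨L, hL, rfl⟩ := PicGrp.exists_eq_cls c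
  refine ⟨L, rfl, hL, fun z Ω _ _ σ _ => ?_⟩
  let P := Limits.pullback (PicF.XTproj X.hom T) σ
  letI : P.Over (Spec (CommRingCat.of Ω)) := ⟨Limits.pullback.snd _ _⟩
  let Z := Limits.pullback q (σ ≫ q)
  let r : Z ⟶ Spec (CommRingCat.of Ω) := Limits.pullback.snd _ _
  haveI : GeometricallyConnected r := inferInstance
  haveI : LocallyOfFiniteType r := inferInstance
  haveI : QuasiCompact r := inferInstance
  haveI : ConnectedSpace Z :=
    GeometricallyConnected.geometrically_connectedSpace (f := q) (σ ≫ q) _ r (IsPullback.of_hasPullback q (σ ≫ q))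
  let t : Spec (CommRingCat.of Ω) ⟶ Z := Limits.pullback.lift σ (𝟙 _) (by rw [Category.id_comp])
  let t₀ : Spec (CommRingCat.of Ω) ⟶ Z := Limits.pullback.lift ((σ ≫ q) ≫ e.left) (𝟙 _)
    (by rw [Category.assoc, he, Category.comp_id, Category.id_comp])
  have hpT : Limits.pullback.fst (PicF.XTproj X.hom T) σ ≫ Limits.pullback.fst X.hom T.hom ≫ X.hom =
      Limits.pullback.snd (PicF.XTproj X.hom T) σ ≫ (σ ≫ q) ≫ τ := by
    rw [Category.assoc σ, hq]
    exact (congrArg (Limits.pullback.fst (PicF.XTproj X.hom T) σ ≫ ·) (Limits.pullback.condition (f := X.hom) (g := T.hom))).trans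
      ((reassoc_of% (Limits.pullback.condition (f := PicF.XTproj X.hom T) (g := σ))) T.hom)
  let a : Pic13.prodK Ω P r ⟶ PicF.XT X.hom T :=
    Limits.pullback.lift (Limits.pullback.fst _ _ ≫ Limits.pullback.fst (PicF.XTproj X.hom T) σ ≫ Limits.pullback.fst X.hom T.hom)
      (Limits.pullback.snd _ _ ≫ Limits.pullback.fst q (σ ≫ q)) (by
        simp only [Category.assoc]
        rw [hpT, ← hq, Limits.pullback.condition_assoc]
        exact (reassoc_of% (Limits.pullback.condition (f := (P ↘ Spec (CommRingCat.of Ω))) (g := r))) _)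
  refine ⟨Z, r, inferInstance, inferInstance, inferInstance, (Scheme.Modules.pullback a).obj L,
    PicLoc.isInvertible_pullback a hL, t, t₀, Limits.pullback.lift_snd _ _ _, Limits.pullback.lift_snd _ _ _, ⟨?_⟩, ?_⟩
  · have ha : Pic13.sliceAt Ω P r t (Limits.pullback.lift_snd _ _ _) ≫ a = Limits.pullback.fst (PicF.XTproj X.hom T) σ := by
      refine Limits.pullback.hom_ext ?_ ?_
      · simp [a, Pic13.sliceAt]
        exact Category.id_comp _
      · simp [a, Pic13.sliceAt, t]
        exact Limits.pullback.condition.symm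
    exact (Scheme.Modules.pullbackComp _ a).app L ≪≫ (Scheme.Modules.pullbackCongr ha).app L
  · let b : P ⟶ (X ⊗ Over.mk τ).left := Limits.pullback.lift
      (Limits.pullback.fst (PicF.XTproj X.hom T) σ ≫ Limits.pullback.fst X.hom T.hom)
      (Limits.pullback.snd (PicF.XTproj X.hom T) σ ≫ σ ≫ q) (by simpa using hpT)
    have ha : Pic13.sliceAt Ω P r t₀ (Limits.pullback.lift_snd _ _ _) ≫ a = b ≫ (X ◁ e).left := by
      refine Limits.pullback.hom_ext ?_ ?_
      · simp [a, b, Pic13.sliceAt]
        exact Category.id_comp _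
      · simp [a, b, Pic13.sliceAt, t₀]
        rfl
    rw [pull_cls, PicGrp.cls_eq_one_iff] at hc
    exact ⟨(Scheme.Modules.pullbackComp _ a).app L ≪≫ (Scheme.Modules.pullbackCongr ha).app L ≪≫
      ((Scheme.Modules.pullbackComp b _).app L).symm ≪≫ (Scheme.Modules.pullback b).mapIso hc.some ≪≫
      PicLoc.pullbackStructureIso b⟩

end Groth.Agent.AgSymm
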