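import Groth.Agent.LBDesc.DualRigid
import Groth.Agent.AgSymm.Family
import Groth.Agent.Rigid.Smooth
import Groth.Agent.AgSymm.AlgMul

/-!
# The pairing defined by a Poincaré class
-/

set_option autoImplicit false
set_option backward.isDefEq.respectTransparency false
set_option backward.isDefEq.respectTransparency.types false
set_option linter.style.haveILetI false
set_option linter.unusedSectionVars false
set_option maxHeartbeats 1000000

universe u

open CategoryTheory MonoidalCategory CartesianMonoidalCategory MonObj GrpObj AlgebraicGeometry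
open Groth.Agent.W7Cube (pull pull_pull pull_cls)
open Groth.Agent.AbPrim (val pull_val)

noncomputable section

namespace Groth.Agent.AgSymm

attribute [local instance] W7Cube.law

variable {S : Scheme.{u}} {A At : Over S} [GrpObj A] [GrpObj At]

/-- a Poincaré class, as an element of the Picard group -/
structure Poincare (φ : ∀ T : Over S, PicF.Cl (PicF.XT A.hom T) → (T ⟶ At)) where
  /-- the class -/
  x : PicLoc.PicSet (A ⊗ At).left
  picZero : AbDual.IsPicZeroCl A.hom At x.1
  phi : φ At x.1 = 𝟙 At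
  rig : val x 1 (𝟙 At) = 1

variable {φ : ∀ T : Over S, PicF.Cl (PicF.XT A.hom T) → (T ⟶ At)}

theorem exists_poincare {ξ : PicF.Cl (PicF.XT A.hom At)} (h : AbDual.IsPoincareCl A At φ ξ) :
    ∃ P : Poincare φ, P.x.1 = ξ := by
  obtain ⟨h0, h1, h2⟩ := h
  refine ⟨⟨⟨ξ, h0.choose, h0.choose_spec.1, h0.choose_spec.2.1⟩, h0, h1, ?_⟩, rfl⟩
  rw [AbPrim.val_one_eq]
  exact Subtype.ext h2

variable (P : Poincare φ)

omit [GrpObj A] in
lemma XTmap_eq {T T' : Over S} (g : T' ⟶ T) : PicF.XTmap A.hom g = (A ◁ g).left := by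
  refine Limits.pullback.hom_ext ?_ ?_ <;> simp [PicF.XTmap]

namespace Poincare

lemma val_one_left {V : Over S} (t : V ⟶ At) : val P.x 1 t = 1 := by
  have e := congrArg (pull t.left) P.rig
  rwa [pull_val, MonObj.comp_one, Category.comp_id, map_one] at e

/-- the class on `A ⊗ T` of a point of the dual -/
def cls {T : Over S} (g : T ⟶ At) : PicLoc.PicSet (A ⊗ T).left := val P.x (fst A T) (snd A T ≫ g)

lemma cls_eq {T : Over S} (g : T ⟶ At) : P.cls g = pull (PicF.XTmap A.hom g) P.x := by
  rw [XTmap_eq]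
  exact congrArg (fun m => pull m P.x) (congrArg (fun m : A ⊗ T ⟶ A ⊗ At => m.left)
    (CartesianMonoidalCategory.hom_ext _ _ (by simp) (by simp) : lift (fst A T) (snd A T ≫ g) = A ◁ g))

lemma picZero_cls {T : Over S} (g : T ⟶ At) : AbDual.IsPicZeroCl A.hom T (P.cls g).1 := by
  rw [cls_eq]; exact LBDesc.picZero_XTmap A.hom g P.picZero

lemma val_cls {T V : Over S} (g : T ⟶ At) (f : V ⟶ A) (t : V ⟶ T) : val (P.cls g) f t = val P.x f (t ≫ g) := by
  change pull (lift f t).left (val P.x (fst A T) (snd A T ≫ g)) = _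
  rw [pull_val, lift_fst, lift_snd_assoc]

lemma rig_cls {T : Over S} (g : T ⟶ At) : pull (PicF.secT A.hom η[A].left (Over.w η[A]) T) (P.cls g) = 1 := by
  rw [← AbPrim.val_one_eq, val_cls, val_one_left]

variable (hA : AbDual.IsDualAV Scheme.fppfPrecoverage A At φ)

include hA in
lemma phi_cls {T : Over S} (g : T ⟶ At) : φ T (P.cls g).1 = g := by
  rw [cls_eq]
  exact (hA.relPic.natural At T g P.x.1 P.picZero).trans (by rw [P.phi, Category.comp_id])

section
variable [IsProper A.hom] [Smooth A.hom] [GeometricallyConnected A.hom]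

include hA in
/-- a rigidified `Pic⁰` class is the class of its point -/
theorem eq_cls {T : Over S} {c : PicLoc.PicSet (A ⊗ T).left} (hc : AbDual.IsPicZeroCl A.hom T c.1)
    (hr : val c 1 (𝟙 T) = 1) : c = P.cls (φ T c.1) :=
  LBDesc.rig_ext A.hom η[A].left (Over.w η[A]) (LBDesc.isIso_XTproj_app A.hom η[A].left (Over.w η[A])) hA.relPic
    hc (P.picZero_cls _) (by rw [← AbPrim.val_one_eq]; exact hr) (P.rig_cls _) (P.phi_cls hA _).symm

/-- additivity in the first variable -/
theorem val_mul_left {V : Over S} (f g : V ⟶ A) (t : V ⟶ At) : val P.x (f * g) t = val P.x f t * val P.x g t := by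
  haveI : GeometricallyReduced A.hom := Rigid.geometricallyReduced_of_smooth _
  haveI : LocallyOfFinitePresentation A.hom := inferInstance
  have h := AbPrim.val_mul P.picZero f g t
  rwa [val_one_left, _root_.mul_one] at h

include hA in
/-- additivity in the second variable -/
theorem val_mul_right {V : Over S} (f : V ⟶ A) (t t' : V ⟶ At) : val P.x f (t * t') = val P.x f t * val P.x f t' := by
  have hm : AbDual.IsPicZeroCl A.hom V (P.cls t * P.cls t').1 := by
    obtain ⟨L, hL, hL'⟩ := PicGrp.exists_eq_cls (P.cls t)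
    obtain ⟨M, hM, hM'⟩ := PicGrp.exists_eq_cls (P.cls t')
    have z := P.picZero_cls t
    have z' := P.picZero_cls t'
    rw [hL'] at z ⊢; rw [hM'] at z' ⊢
    exact picZero_mul z z'
  have e : P.cls t * P.cls t' = P.cls (t * t') := by
    have := P.eq_cls hA hm (by
      change pull _ (P.cls t * P.cls t') = 1
      rw [map_mul]
      change val (P.cls t) 1 (𝟙 V) * val (P.cls t') 1 (𝟙 V) = 1
      rw [val_cls, val_cls, val_one_left, val_one_left, _root_.one_mul])
    rwa [AbPrim.phi_mul hA (P.picZero_cls t) (P.picZero_cls t'), P.phi_cls hA, P.phi_cls hA] at this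
  have e' := congrArg (fun c => val c f (𝟙 V)) e
  simp only [val, map_mul] at e'
  change val (P.cls t) f (𝟙 V) * val (P.cls t') f (𝟙 V) = val (P.cls (t * t')) f (𝟙 V) at e'
  simpa only [val_cls, Category.id_comp] using e'.symm

include hA in
lemma val_one_right {V : Over S} (f : V ⟶ A) : val P.x f 1 = 1 := by
  have h := P.val_mul_right hA f 1 1
  rw [_root_.one_mul] at h
  exact mul_eq_left.1 h.symm

include hA in
lemma val_pow_right {V : Over S} (f : V ⟶ A) (t : V ⟶ At) (n : ℕ) : val P.x f (t ^ n) = val P.x f t ^ n := by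
  induction n with
  | zero => rw [pow_zero, pow_zero, P.val_one_right hA]
  | succ n ih => rw [pow_succ, pow_succ, P.val_mul_right hA, ih]

/-- the transpose of `P.cls` along the factors -/
def swapCls (l : A ⟶ At) : PicLoc.PicSet (A ⊗ A).left := val P.x (snd A A) (fst A A ≫ l)

lemma val_swapCls (l : A ⟶ At) {V : Over S} (f t : V ⟶ A) : val (P.swapCls l) f t = val P.x t (f ≫ l) := by
  change pull (lift f t).left (val P.x (snd A A) (fst A A ≫ l)) = _
  rw [pull_val, lift_snd, lift_fst_assoc]

lemma picZero_swapCls (l : A ⟶ At) : AbDual.IsPicZeroCl A.hom A (P.swapCls l).1 := by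
  refine picZero_of_family (X := A) (T := A) (𝟙 S) A.hom (Category.comp_id _) η[A] (Over.w η[A]) _ ?_
  change pull (A ◁ η[A]).left (val P.x (snd A A) (fst A A ≫ l)) = 1
  refine (pull_val P.x (A ◁ η[A]) (snd A A) (fst A A ≫ l)).trans ?_
  rw [whiskerLeft_snd, show snd A (𝟙_ (Over S)) = toUnit _ from toUnit_unique _ _, ← Hom.one_def, P.val_one_left]

include hA in
lemma rig_swapCls (l : A ⟶ At) [IsMonHom l] : val (P.swapCls l) 1 (𝟙 A) = 1 := by
  rw [val_swapCls, MonObj.one_comp, P.val_one_right hA]

include hA in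
lemma swapCls_pow (l : A ⟶ At) (n : ℕ) : P.swapCls (l ^ n) = P.swapCls l ^ n := by
  simp only [swapCls, MonObj.comp_pow, P.val_pow_right hA]

include hA in
lemma cls_pow {T : Over S} (l : T ⟶ At) (n : ℕ) : P.cls (l ^ n) = P.cls l ^ n := by
  simp only [cls, MonObj.comp_pow, P.val_pow_right hA]

end
end Poincare

end Groth.Agent.AgSymm
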