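import Groth.Agent.AgSymm.Fibre

/-!
# The homomorphism attached to the pullback of the Poincaré class along a graph
-/

set_option autoImplicit false
set_option backward.isDefEq.respectTransparency false
set_option backward.isDefEq.respectTransparency.types false
set_option linter.style.haveILetI false
set_option linter.unusedSectionVars false
set_option maxHeartbeats 1000000

universe u

open CategoryTheory MonoidalCategory CartesianMonoidalCategory MonObj GrpObj AlgebraicGeometry
open Groth.Agent.W7Cube (pull pull_pull pull_cls)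
open Groth.Agent.AbPrim (val pull_val)

noncomputable section

namespace Groth.Agent.AgSymm

attribute [local instance] W7Cube.law

variable {S : Scheme.{u}} {A At : Over S} [GrpObj A] [IsCommMonObj A] [GrpObj At] [IsCommMonObj At]
  [IsProper A.hom] [Smooth A.hom] [GeometricallyConnected A.hom]
  {φ : ∀ T : Over S, PicF.Cl (PicF.XT A.hom T) → (T ⟶ At)}

/-- the pullback of the Poincaré class along a graph -/
def Poincare.graphCls (P : Poincare φ) (l : A ⟶ At) : PicLoc.PicSet A.left := val P.x (𝟙 A) l

lemma isMonHom_pow (l : A ⟶ At) [IsMonHom l] : ∀ n : ℕ, IsMonHom (l ^ n)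
  | 0 => by rw [pow_zero, Hom.one_def]; infer_instance
  | n + 1 => by
    haveI := isMonHom_pow l n
    rw [pow_succ, Hom.mul_def]
    infer_instance

theorem lambda_graph (P : Poincare φ) (hA : AbDual.IsDualAV Scheme.fppfPrecoverage A At φ) (l : A ⟶ At) [IsMonHom l] :
    pull μ[A].left (P.graphCls l) =
      P.cls l * P.swapCls l * pull (fst A A).left (P.graphCls l) * pull (snd A A).left (P.graphCls l) := by
  simp only [Poincare.graphCls, Poincare.cls, Poincare.swapCls, pull_val, Category.comp_id]
  rw [show μ[A] = fst A A * snd A A by rw [Hom.mul_def, lift_fst_snd, Category.id_comp], MonObj.mul_comp,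
    P.val_mul_right hA, P.val_mul_left, P.val_mul_left]
  ac_rfl

theorem phi_swapCls_pow (P : Poincare φ) (hA : AbDual.IsDualAV Scheme.fppfPrecoverage A At φ) {l : A ⟶ At}
    (hl : AgPol.IsPolarization A At φ l) (n : ℕ) : φ A (P.swapCls (l ^ n)).1 = l ^ n := by
  induction n with
  | zero => rw [P.swapCls_pow hA, pow_zero, pow_zero, AbPrim.phi_one hA]
  | succ n ih =>
    rw [P.swapCls_pow hA, pow_succ, ← P.swapCls_pow hA, AbPrim.phi_mul hA (P.picZero_swapCls _) (P.picZero_swapCls _),
      ih, phi_swapCls P hA hl, pow_succ]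

theorem phi_lambdaCls (P : Poincare φ) (hA : AbDual.IsDualAV Scheme.fppfPrecoverage A At φ) {l : A ⟶ At}
    (hl : AgPol.IsPolarization A At φ l) (n : ℕ) : φ A (P.cls (l ^ n) * P.swapCls (l ^ n)).1 = l ^ n * l ^ n := by
  rw [AbPrim.phi_mul hA (P.picZero_cls _) (P.picZero_swapCls _), P.phi_cls hA, phi_swapCls_pow P hA hl]

end Groth.Agent.AgSymm
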