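import Groth.Agent.AgSymm.Basic

/-!
# Multiplication maps on a Poincaré class
-/

set_option autoImplicit false
set_option backward.isDefEq.respectTransparency false
set_option backward.isDefEq.respectTransparency.types false
set_option linter.style.haveILetI false
set_option linter.unusedSectionVars false
set_option maxHeartbeats 1000000

universe u

open CategoryTheory MonoidalCategory CartesianMonoidalCategory MonObj GrpObj AlgebraicGeometry
open Groth.Agent.W7Cube (pull pull_pull pull_cls)
open Groth.Agent.AbPrim (val pull_val)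

noncomputable section

namespace Groth.Agent.AgSymm

attribute [local instance] W7Cube.law

theorem cls_tensorPow {Y : Scheme.{u}} {L : Y.Modules} (hL : PicF.IsInvertible L) : ∀ n : ℕ,
    PicGrp.cls L hL ^ n = PicGrp.cls (CohB1.tensorPow L n) (TMul.isInvertible_tensorPow hL n)
  | 0 => rfl
  | n + 1 => by rw [pow_succ, cls_tensorPow hL n]; rfl

variable {S : Scheme.{u}} {A At : Over S} [GrpObj A] [GrpObj At]
variable {φ : ∀ T : Over S, PicF.Cl (PicF.XT A.hom T) → (T ⟶ At)}

namespace Poincare

variable (P : Poincare φ) (hA : AbDual.IsDualAV Scheme.fppfPrecoverage A At φ)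
variable [IsProper A.hom] [Smooth A.hom] [GeometricallyConnected A.hom]

omit [GrpObj A] in
lemma bcMap_eq (f : A ⟶ A) : AbDual.bcMap f At = (f ▷ At).left := by
  refine Limits.pullback.hom_ext ?_ ?_ <;> simp [AbDual.bcMap]

lemma cls_id : P.cls (𝟙 At) = P.x := by
  rw [cls_eq, XTmap_eq, MonoidalCategory.whiskerLeft_id]
  change PicGrp.pullHom _ _ P.x = _
  exact congrArg (fun f => f P.x) (show pull (Over.Hom.left (𝟙 (A ⊗ At))) = MonoidHom.id (PicLoc.PicSet (A ⊗ At).left) from MonoidHom.ext fun c => by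
    obtain ⟨L, hL, rfl⟩ := PicGrp.exists_eq_cls c
    rw [pull_cls, MonoidHom.id_apply]
    exact (PicGrp.cls_eq_cls_iff _ hL).2 ⟨(Scheme.Modules.pullbackId _).app L⟩)

lemma x_eq_val : val P.x (fst A At) (snd A At) = P.x := by
  conv_rhs => rw [← P.cls_id]
  simp only [cls, Category.comp_id]

include hA in
lemma pull_pow_right (n : ℕ) : pull (PicF.XTmap A.hom (𝟙 At ^ n)) P.x = P.x ^ n := by
  rw [← cls_eq, P.cls_pow hA, P.cls_id]

include hA in
lemma cls_inv : P.cls (𝟙 At)⁻¹ * P.x = 1 := by
  conv_lhs => arg 2; rw [← P.cls_id]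
  simp only [cls]
  rw [← P.val_mul_right hA, ← MonObj.comp_mul, inv_mul_cancel, MonObj.comp_one, P.val_one_right hA]

lemma pull_bcMap (f : A ⟶ A) : pull (AbDual.bcMap f At) P.x = val P.x (fst A At ≫ f) (snd A At) := by
  rw [bcMap_eq]
  exact congrArg (fun m => pull m P.x) (congrArg (fun m : A ⊗ At ⟶ A ⊗ At => m.left)
    (CartesianMonoidalCategory.hom_ext _ _ (by simp) (by simp) : lift (fst A At ≫ f) (snd A At) = f ▷ At).symm)

lemma val_pow_left {V : Over S} (f : V ⟶ A) (t : V ⟶ At) (n : ℕ) : val P.x (f ^ n) t = val P.x f t ^ n := by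
  induction n with
  | zero => rw [pow_zero, pow_zero, P.val_one_left]
  | succ n ih => rw [pow_succ, pow_succ, P.val_mul_left, ih]

lemma pull_pow_left (n : ℕ) : pull (AbDual.bcMap (𝟙 A ^ n) At) P.x = P.x ^ n := by
  rw [pull_bcMap, MonObj.comp_pow, Category.comp_id, val_pow_left, x_eq_val]

lemma val_inv_left : val P.x (fst A At ≫ (𝟙 A)⁻¹) (snd A At) * P.x = 1 := by
  conv_lhs => arg 2; rw [← P.x_eq_val]
  rw [← P.val_mul_left]
  conv_lhs => arg 2; arg 2; rw [← Category.comp_id (fst A At)]
  rw [← MonObj.comp_mul, inv_mul_cancel, MonObj.comp_one, P.val_one_left]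

end Poincare

end Groth.Agent.AgSymm
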