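import Groth.Agent.AgSymm.PowSurj
import Groth.Agent.AgSymm.Collapse
import Groth.Agent.W7Cube.GroupBase
import Groth.Prelude.Def_Red

/-!
# Multiplication by `n` on an abelian scheme is surjective
-/

set_option autoImplicit false
set_option backward.isDefEq.respectTransparency false
set_option backward.isDefEq.respectTransparency.types false
set_option linter.style.haveILetI false

universe u

open CategoryTheory MonoidalCategory CartesianMonoidalCategory MonObj GrpObj AlgebraicGeometry

noncomputable section

namespace Groth.Agent.AgSymm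

variable {S : Scheme.{u}} (A : Over S) [GrpObj A] [IsProper A.hom] [Smooth A.hom] [GeometricallyConnected A.hom]

theorem surjective_pow_left {n : ℕ} (hn : n ≠ 0) : Surjective (𝟙 A ^ n : A ⟶ A).left := by
  refine ⟨fun y => ?_⟩
  obtain ⟨Ω, _, _, a, ha⟩ := exists_geometric y
  let τ := a ≫ A.hom
  let B := Red.bc τ A
  haveI : IsProper B.hom := inferInstanceAs (IsProper (Limits.pullback.snd A.hom τ))
  haveI : Smooth B.hom := inferInstanceAs (Smooth (Limits.pullback.snd A.hom τ))
  haveI : GeometricallyConnected B.hom := inferInstanceAs (GeometricallyConnected (Limits.pullback.snd A.hom τ))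
  haveI : GeometricallyReduced B.hom := Rigid.geometricallyReduced_of_smooth _
  haveI : LocallyOfFinitePresentation B.hom := inferInstance
  haveI : GeometricallyIntegral B.hom := W7Cube.geometricallyIntegral_grp
  let b : Spec (CommRingCat.of Ω) ⟶ B.left := Limits.pullback.lift a (𝟙 _) (Category.id_comp τ).symm
  obtain ⟨w, hw⟩ := (surjective_pow B hn).surj (b.base (IsLocalRing.closedPoint Ω))
  have hmap : ∀ m : ℕ, (Over.pullback τ).map (𝟙 A ^ m) = 𝟙 B ^ m := fun m => by
    induction m with
    | zero => rw [pow_zero, pow_zero, Functor.map_one]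
    | succ m ih => rw [pow_succ, pow_succ, Functor.map_mul, ih, CategoryTheory.Functor.map_id]
  refine ⟨(Limits.pullback.fst A.hom τ).base w, ?_⟩
  have e : ((Over.pullback τ).map (𝟙 A ^ n)).left ≫ Limits.pullback.fst A.hom τ =
      Limits.pullback.fst A.hom τ ≫ (𝟙 A ^ n : A ⟶ A).left := by simp
  have e' := congrArg (fun m => m.base w) e
  simp only [Scheme.Hom.comp_apply] at e'
  refine e'.symm.trans ?_
  rw [hmap]
  refine (congrArg (Limits.pullback.fst A.hom τ).base hw).trans ?_
  exact (Scheme.Hom.comp_apply b _ _).symm.trans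
    ((congrArg (fun m : Spec (CommRingCat.of Ω) ⟶ A.left => m.base (IsLocalRing.closedPoint Ω)) (Limits.pullback.lift_fst a (𝟙 _) (Category.id_comp τ).symm)).trans (ha _))

variable {A} {B : Over S} [GrpObj B] [IsCommMonObj B]

/-- homomorphisms out of an abelian scheme have no torsion -/
theorem eq_of_pow_eq {f g : A ⟶ B} [IsMonHom f] [IsMonHom g] {n : ℕ} (hn : n ≠ 0) (h : f ^ n = g ^ n) : f = g := by
  refine mul_inv_eq_one.1 (eq_one_of_collapsed (f * g⁻¹) ?_ fun y => ?_)
  · rw [MonObj.comp_mul, GrpObj.comp_inv, IsMonHom.one_hom, IsMonHom.one_hom, mul_inv_cancel, Hom.one_def]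
    exact (congrArg (· ≫ η[B]) (toUnit_unique (toUnit _) (𝟙 _))).trans (Category.id_comp _)
  obtain ⟨w, hw⟩ := (surjective_pow_left A hn).surj y
  subst hw
  have e : (𝟙 A ^ n : A ⟶ A) ≫ (f * g⁻¹) = 1 := by
    rw [MonObj.comp_mul, GrpObj.comp_inv, MonObj.pow_comp, MonObj.pow_comp, Category.id_comp, Category.id_comp, h,
      mul_inv_cancel]
  rw [Hom.one_def] at e
  have e' := congrArg (fun m => m.left.base w) e
  simp only [Over.comp_left, Scheme.Hom.comp_apply] at e'
  refine e'.trans ?_
  change η[B].left.base (A.hom.base w) = _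
  rw [← Scheme.Hom.comp_apply _ A.hom, Over.w (𝟙 A ^ n : A ⟶ A)]

end Groth.Agent.AgSymm
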